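import Mathlib

/-!
# Quasi-homeomorphisms and sheaf categories
-/

set_option autoImplicit false

universe u

namespace Groth.QHEquiv

open CategoryTheory CategoryTheory.Limits TopologicalSpace Opposite

variable {X₀ X : TopCat.{u}} (f : X₀ ⟶ X)

/-- Preimage is bijective on opens. -/
abbrev QH : Prop := Function.Bijective fun U : Opens X => (Opens.map f).obj U

theorem le_of_preimage_le (h : QH f) {U V : Opens X} (hle : (Opens.map f).obj U ≤ (Opens.map f).obj V) :
    U ≤ V := by
  have : (Opens.map f).obj (U ⊓ V) = (Opens.map f).obj U := by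
    ext x
    exact ⟨fun hx => hx.1, fun hx => ⟨hx, hle hx⟩⟩
  exact inf_eq_left.mp (h.1 this)

theorem isDenseSubsite (h : QH f) :
    (Opens.map f).IsDenseSubsite (Opens.grothendieckTopology X) (Opens.grothendieckTopology X₀) := by
  haveI : (Opens.map f).Full :=
    ⟨fun {U V} g => ⟨homOfLE (le_of_preimage_le f h g.le), Subsingleton.elim _ _⟩⟩
  haveI : (Opens.map f).Faithful := ⟨fun _ => Subsingleton.elim _ _⟩
  haveI : (Opens.map f).IsCoverDense (Opens.grothendieckTopology X₀) := ⟨fun W x hx => by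
    obtain ⟨U, rfl⟩ := h.2 W
    exact ⟨_, 𝟙 _, ⟨{ obj := U, lift := 𝟙 _, map := 𝟙 _, fac := Category.comp_id _ }⟩, hx⟩⟩
  refine { functorPushforward_mem_iff := fun {U S} => ⟨fun hS x hx => ?_, fun hS y hy => ?_⟩ }
  · -- the union of the sieve has the same preimage as `U`
    let V : Opens X := ⨆ g : {W : Opens X // ∃ i : W ⟶ U, S i}, g.1
    have hV : (Opens.map f).obj U ≤ (Opens.map f).obj V := fun y hy => by
      obtain ⟨W, i, ⟨W', i', j, hi', -⟩, hyW⟩ := hS y hy
      exact Opens.mem_iSup.mpr ⟨⟨W', i', hi'⟩, j.le hyW⟩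
    obtain ⟨⟨W, i, hi⟩, hxW⟩ := Opens.mem_iSup.mp (le_of_preimage_le f h hV hx)
    exact ⟨W, i, hi, hxW⟩
  · obtain ⟨W, i, hi, hyW⟩ := hS (f y) hy
    exact ⟨_, (Opens.map f).map i, Sieve.image_mem_functorPushforward _ _ hi, hyW⟩

theorem isEquivalence_type (h : QH f) :
    (TopCat.Sheaf.pullback (Type u) f).IsEquivalence := by
  haveI := isDenseSubsite f h
  haveI : (TopCat.Sheaf.pushforward (Type u) f).IsEquivalence :=
    inferInstanceAs ((Opens.map f).sheafPushforwardContinuous (Type u)
      (Opens.grothendieckTopology X) (Opens.grothendieckTopology X₀)).IsEquivalence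
  exact (TopCat.Sheaf.pullbackPushforwardAdjunction (Type u) f).isEquivalence_left_of_isEquivalence_right

theorem isEquivalence_ab (h : QH f) :
    (TopCat.Sheaf.pullback AddCommGrpCat.{u} f).IsEquivalence := by
  haveI := isDenseSubsite f h
  haveI : (TopCat.Sheaf.pushforward AddCommGrpCat.{u} f).IsEquivalence :=
    inferInstanceAs ((Opens.map f).sheafPushforwardContinuous AddCommGrpCat.{u}
      (Opens.grothendieckTopology X) (Opens.grothendieckTopology X₀)).IsEquivalence
  exact (TopCat.Sheaf.pullbackPushforwardAdjunction AddCommGrpCat.{u} f).isEquivalence_left_of_isEquivalence_right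

section Fun

variable {Y : TopCat.{u}} (C : Set Y) (A : Type u)

/-- Functions on `O ∩ C`, as a sheaf of sets. -/
def funT : TopCat.Sheaf (Type u) Y :=
  ⟨TopCat.presheafToTypes Y fun y => (PLift (y ∈ C) → A), TopCat.Presheaf.toTypes_isSheaf _ _⟩

/-- Functions on `O ∩ C`, as a sheaf of abelian groups. -/
def funA [AddCommGroup A] : TopCat.Sheaf AddCommGrpCat.{u} Y :=
  ⟨{ obj := fun O => AddCommGrpCat.of (∀ y : O.unop, PLift (y.1 ∈ C) → A)
     map := fun i => AddCommGrpCat.ofHom
       { toFun := fun s y => s ⟨y.1, i.unop.le y.2⟩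
         map_zero' := rfl
         map_add' := fun _ _ => rfl } }, by
    refine (TopCat.Presheaf.isSheaf_iff_isSheaf_comp (forget AddCommGrpCat.{u}) _).mpr ?_
    exact TopCat.Presheaf.toTypes_isSheaf Y fun y => (PLift (y ∈ C) → A)⟩

end Fun

section Types

variable (h : (TopCat.Sheaf.pullback (Type u) f).IsEquivalence)
include h

theorem qh_of_type : QH f := by
  haveI := h
  haveI : (TopCat.Sheaf.pushforward (Type u) f).IsEquivalence :=
    (TopCat.Sheaf.pullbackPushforwardAdjunction (Type u) f).isEquivalence_right_of_isEquivalence_left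
  constructor
  · have main : ∀ U V : Opens X, (Opens.map f).obj U = (Opens.map f).obj V → U ≤ V := by
      intro U V e p hpU
      by_contra hpV
      let G := funT ({p} : Set X) (ULift.{u} Bool)
      let G₀ := (TopCat.Sheaf.pushforward (Type u) f).objPreimage G
      let ψ : (TopCat.Sheaf.pushforward (Type u) f).obj G₀ ≅ G :=
        (TopCat.Sheaf.pushforward (Type u) f).objObjPreimageIso G
      have hiso : IsIso ((Opens.map f).map (homOfLE (inf_le_left : U ⊓ V ≤ U))) :=
        ⟨homOfLE (fun x hx => ⟨hx, e.le hx⟩), Subsingleton.elim _ _, Subsingleton.elim _ _⟩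
      haveI : IsIso (((TopCat.Sheaf.pushforward (Type u) f).obj G₀).obj.map
          (homOfLE (inf_le_left : U ⊓ V ≤ U)).op) :=
        inferInstanceAs (IsIso (G₀.obj.map ((Opens.map f).map (homOfLE (inf_le_left : U ⊓ V ≤ U))).op))
      have hG : IsIso (G.obj.map (homOfLE (inf_le_left : U ⊓ V ≤ U)).op) :=
        (NatIso.isIso_map_iff ((sheafToPresheaf _ _).mapIso ψ) _).mp this
      have hinj := ((isIso_iff_bijective _).mp hG).1
      have hsub : ∀ a b : G.obj.obj (op (U ⊓ V)), a = b := fun a b => funext fun y => funext fun hy =>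
        absurd (Set.mem_singleton_iff.mp hy.down ▸ y.2.2) hpV
      have := congrFun (congrFun (@hinj (fun y _ => ⟨true⟩) (fun y _ => ⟨false⟩) (hsub _ _)) ⟨p, hpU⟩) ⟨rfl⟩
      simp at this
    exact fun U V e => le_antisymm (main U V e) (main V U e.symm)
  · intro W
    let C : Set X₀ := (W : Set X₀)ᶜ
    let G₀ := funT C (ULift.{u} Bool)
    have key : ∀ x ∈ W, ∃ V : Opens X, f x ∈ V ∧ (Opens.map f).obj V ≤ W := by
      intro x hxW
      let G := (TopCat.Sheaf.pushforward (Type u) f).obj G₀
      let A : Type u := TopCat.Presheaf.stalk (C := Type u) G.obj (f x)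
      let φ : G ⟶ (TopCat.Sheaf.pushforward (Type u) f).obj (funT ({x} : Set X₀) A) :=
        ObjectProperty.homMk
          { app := fun V => ↾fun g y hy => G.presheaf.germ V.unop (f x)
              (by rw [← Set.mem_singleton_iff.mp hy.down]; exact y.2) g
            naturality := fun V V' i => by
              ext g
              funext y hy
              exact TopCat.Presheaf.germ_res_apply G.presheaf i.unop (f x) _ g }
      obtain ⟨χ, hχ⟩ := (TopCat.Sheaf.pushforward (Type u) f).map_surjective φ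
      have hconst : ∀ (O : (Opens X₀)ᵒᵖ) (g g' : G₀.obj.obj O) (y : O.unop) (hy : PLift (y.1 ∈ ({x} : Set X₀))),
          χ.hom.app O g y hy = χ.hom.app O g' y hy := by
        intro O g g' y hy
        have hyx : y.1 = x := Set.mem_singleton_iff.mp hy.down
        let i : O.unop ⊓ W ⟶ O.unop := homOfLE inf_le_left
        have hsub : G₀.obj.map i.op g = G₀.obj.map i.op g' :=
          funext fun z => funext fun hz => absurd z.2.2 hz.down
        have e₁ := congrFun (congrFun (NatTrans.naturality_apply χ.hom i.op g)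
          ⟨y.1, y.2, hyx ▸ hxW⟩) hy
        have e₂ := congrFun (congrFun (NatTrans.naturality_apply χ.hom i.op g')
          ⟨y.1, y.2, hyx ▸ hxW⟩) hy
        rw [hsub] at e₁
        exact e₁.symm.trans e₂
      have hφ : ∀ g : G.obj.obj (op ⊤), φ.hom.app (op ⊤) g = χ.hom.app (op ((Opens.map f).obj ⊤)) g :=
        fun g => by rw [← hχ]; rfl
      have h3 : G.presheaf.germ ⊤ (f x) trivial (fun _ _ => ⟨true⟩) =
          G.presheaf.germ ⊤ (f x) trivial (fun _ _ => ⟨false⟩) :=
        (congrFun (congrFun (hφ (fun _ _ => ⟨true⟩)) ⟨x, trivial⟩) ⟨rfl⟩).trans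
          ((hconst _ _ _ _ _).trans (congrFun (congrFun (hφ (fun _ _ => ⟨false⟩)) ⟨x, trivial⟩) ⟨rfl⟩).symm)
      obtain ⟨V, hxV, i₁, i₂, e⟩ := G.presheaf.germ_eq (f x) _ _ _ _ h3
      refine ⟨V, hxV, fun y hy => ?_⟩
      by_contra hyW
      have := congrFun (congrFun e ⟨y, hy⟩) ⟨hyW⟩
      exact Bool.noConfusion (congrArg ULift.down this)
    choose V hV hle using key
    refine ⟨⨆ x : W, V x.1 x.2, le_antisymm (fun y hy => ?_) fun y hy => ?_⟩
    · obtain ⟨x, hx⟩ := Opens.mem_iSup.mp hy
      exact hle _ _ hx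
    · exact Opens.mem_iSup.mpr ⟨⟨y, hy⟩, hV y hy⟩

end Types

section Ab

variable (h : (TopCat.Sheaf.pullback AddCommGrpCat.{u} f).IsEquivalence)
include h

theorem qh_of_ab : QH f := by
  haveI := h
  haveI : (TopCat.Sheaf.pushforward AddCommGrpCat.{u} f).IsEquivalence :=
    (TopCat.Sheaf.pullbackPushforwardAdjunction AddCommGrpCat.{u} f).isEquivalence_right_of_isEquivalence_left
  constructor
  · have main : ∀ U V : Opens X, (Opens.map f).obj U = (Opens.map f).obj V → U ≤ V := by
      intro U V e p hpU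
      by_contra hpV
      let G := funA ({p} : Set X) (ULift.{u} ℤ)
      let G₀ := (TopCat.Sheaf.pushforward AddCommGrpCat.{u} f).objPreimage G
      let ψ : (TopCat.Sheaf.pushforward AddCommGrpCat.{u} f).obj G₀ ≅ G :=
        (TopCat.Sheaf.pushforward AddCommGrpCat.{u} f).objObjPreimageIso G
      have hiso : IsIso ((Opens.map f).map (homOfLE (inf_le_left : U ⊓ V ≤ U))) :=
        ⟨homOfLE (fun x hx => ⟨hx, e.le hx⟩), Subsingleton.elim _ _, Subsingleton.elim _ _⟩
      haveI : IsIso (((TopCat.Sheaf.pushforward AddCommGrpCat.{u} f).obj G₀).obj.map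
          (homOfLE (inf_le_left : U ⊓ V ≤ U)).op) :=
        inferInstanceAs (IsIso (G₀.obj.map ((Opens.map f).map (homOfLE (inf_le_left : U ⊓ V ≤ U))).op))
      have hG : IsIso (G.obj.map (homOfLE (inf_le_left : U ⊓ V ≤ U)).op) :=
        (NatIso.isIso_map_iff ((sheafToPresheaf _ _).mapIso ψ) _).mp this
      have hinj := ((ConcreteCategory.isIso_iff_bijective _).mp hG).1
      have hsub : ∀ a b : G.obj.obj (op (U ⊓ V)), a = b := fun a b => funext fun y => funext fun hy =>
        absurd (Set.mem_singleton_iff.mp hy.down ▸ y.2.2) hpV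
      have := congrFun (congrFun (@hinj (fun y _ => ⟨1⟩) (fun y _ => ⟨0⟩) (hsub _ _)) ⟨p, hpU⟩) ⟨rfl⟩
      simp at this
    exact fun U V e => le_antisymm (main U V e) (main V U e.symm)
  · intro W
    let C : Set X₀ := (W : Set X₀)ᶜ
    let G₀ := funA C (ULift.{u} ℤ)
    have key : ∀ x ∈ W, ∃ V : Opens X, f x ∈ V ∧ (Opens.map f).obj V ≤ W := by
      intro x hxW
      let G := (TopCat.Sheaf.pushforward AddCommGrpCat.{u} f).obj G₀
      let A : AddCommGrpCat.{u} := TopCat.Presheaf.stalk (C := AddCommGrpCat.{u}) G.obj (f x)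
      let φ : G ⟶ (TopCat.Sheaf.pushforward AddCommGrpCat.{u} f).obj (funA ({x} : Set X₀) A) :=
        ObjectProperty.homMk
          { app := fun V => AddCommGrpCat.ofHom
              { toFun := fun g y hy => G.presheaf.germ V.unop (f x)
                  (by rw [← Set.mem_singleton_iff.mp hy.down]; exact y.2) g
                map_zero' := funext fun y => funext fun hy => map_zero _
                map_add' := fun a b => funext fun y => funext fun hy => map_add _ a b }
            naturality := fun V V' i => by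
              ext g
              funext y hy
              exact TopCat.Presheaf.germ_res_apply G.presheaf i.unop (f x) _ g }
      obtain ⟨χ, hχ⟩ := (TopCat.Sheaf.pushforward AddCommGrpCat.{u} f).map_surjective φ
      have hconst : ∀ (O : (Opens X₀)ᵒᵖ) (g g' : G₀.obj.obj O) (y : O.unop) (hy : PLift (y.1 ∈ ({x} : Set X₀))),
          χ.hom.app O g y hy = χ.hom.app O g' y hy := by
        intro O g g' y hy
        have hyx : y.1 = x := Set.mem_singleton_iff.mp hy.down
        let i : O.unop ⊓ W ⟶ O.unop := homOfLE inf_le_left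
        have hsub : G₀.obj.map i.op g = G₀.obj.map i.op g' :=
          funext fun z => funext fun hz => absurd z.2.2 hz.down
        have e₁ := congrFun (congrFun (NatTrans.naturality_apply χ.hom i.op g)
          ⟨y.1, y.2, hyx ▸ hxW⟩) hy
        have e₂ := congrFun (congrFun (NatTrans.naturality_apply χ.hom i.op g')
          ⟨y.1, y.2, hyx ▸ hxW⟩) hy
        rw [hsub] at e₁
        exact e₁.symm.trans e₂
      have hφ : ∀ g : G.obj.obj (op ⊤), φ.hom.app (op ⊤) g = χ.hom.app (op ((Opens.map f).obj ⊤)) g :=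
        fun g => by rw [← hχ]; rfl
      have h3 : G.presheaf.germ ⊤ (f x) trivial (fun _ _ => ⟨1⟩) =
          G.presheaf.germ ⊤ (f x) trivial (fun _ _ => ⟨0⟩) :=
        (congrFun (congrFun (hφ (fun _ _ => ⟨1⟩)) ⟨x, trivial⟩) ⟨rfl⟩).trans
          ((hconst _ _ _ _ _).trans (congrFun (congrFun (hφ (fun _ _ => ⟨0⟩)) ⟨x, trivial⟩) ⟨rfl⟩).symm)
      obtain ⟨V, hxV, i₁, i₂, e⟩ := G.presheaf.germ_eq (f x) _ _ _ _ h3
      refine ⟨V, hxV, fun y hy => ?_⟩
      by_contra hyW
      have := congrFun (congrFun e ⟨y, hy⟩) ⟨hyW⟩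
      exact one_ne_zero (congrArg ULift.down this)
    choose V hV hle using key
    refine ⟨⨆ x : W, V x.1 x.2, le_antisymm (fun y hy => ?_) fun y hy => ?_⟩
    · obtain ⟨x, hx⟩ := Opens.mem_iSup.mp hy
      exact hle _ _ hx
    · exact Opens.mem_iSup.mpr ⟨⟨y, hy⟩, hV y hy⟩

end Ab

/-- The three conditions agree. -/
theorem tfae : [QH f, (TopCat.Sheaf.pullback (Type u) f).IsEquivalence,
    (TopCat.Sheaf.pullback AddCommGrpCat.{u} f).IsEquivalence].TFAE := by
  tfae_have 1 → 2 := isEquivalence_type f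
  tfae_have 2 → 1 := qh_of_type f
  tfae_have 1 → 3 := isEquivalence_ab f
  tfae_have 3 → 1 := qh_of_ab f
  tfae_finish

end Groth.QHEquiv
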